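import Groth.Agent.QCohGenLib.Small

/-!
# Quasi-coherent modules on any scheme have a separating set; the coherator
-/

set_option autoImplicit false
set_option backward.isDefEq.respectTransparency false
set_option backward.isDefEq.respectTransparency.types false
set_option linter.style.haveILetI false

universe u

open CategoryTheory CategoryTheory.Limits AlgebraicGeometry TopologicalSpace Opposite

noncomputable section

namespace Groth.Agent.QCohGenLib

variable (X : Scheme.{u})

/-- Quasi-coherent quotients of the fixed sums. -/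
def QIdx : Type (u + 1) :=
  Σ U₀ : X.affineOpens, {K : Subobject (gen U₀) // QCohCat.isQCoh X (cokernel K.arrow)}

/-- The generators. -/
def qobj (i : QIdx X) : QCohCat.QCoh X := ⟨cokernel i.2.1.arrow, i.2.2⟩

theorem small_qidx : Small.{u} (QIdx X) := by
  haveI := InjModLib.isGrothendieckAbelian_modules (X := X)
  haveI : WellPowered.{u} X.Modules := IsGrothendieckAbelian.wellPowered.{u} X.Modules
  haveI : ∀ U₀ : X.affineOpens,
      Small.{u} {K : Subobject (gen U₀) // QCohCat.isQCoh X (cokernel K.arrow)} :=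
    fun U₀ => inferInstance
  unfold QIdx
  infer_instance

/-- Quasi-coherent modules on any scheme have a small separating family. -/
theorem exists_separating : ∃ (T : Type u) (g : T → QCohCat.QCoh X),
    (ObjectProperty.ofObj g).IsSeparating := by
  classical
  haveI := small_qidx X
  refine ⟨Shrink.{u} (QIdx X), fun t => qobj X ((equivShrink _).symm t), ?_⟩
  intro M N f₁ f₂ hh
  ext1
  refine Scheme.Modules.hom_ext _ _ fun V => ?_
  ext s
  choose A hA hpA hAV using fun p : V => Opens.isBasis_iff_nbhd.mp X.isBasis_affineOpens p.2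
  refine TopCat.Sheaf.eq_of_locally_eq' ((QCohLib.toAbF X).obj N.obj : TopCat.Sheaf AddCommGrpCat _)
    A V (fun p => homOfLE (hAV p)) (fun q hq => Opens.mem_iSup.mpr ⟨⟨q, hq⟩, hpA ⟨q, hq⟩⟩) _ _
    fun p => ?_
  refine ((QCohLib.app_map f₁.hom _ s).symm.trans ?_).trans (QCohLib.app_map f₂.hom _ s)
  generalize M.obj.presheaf.map (homOfLE (hAV p)).op s = t
  haveI : Coh.IsQCoh M.obj := M.property
  let U₀ : X.affineOpens := ⟨A p, hA p⟩
  let S := small (F := M.obj) (U₀ := U₀) t
  let π : gen U₀ ⟶ S.toModules := cover (F := M.obj) (U₀ := U₀) t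
  haveI : Epi π := epi_cover (F := M.obj) (U₀ := U₀) t
  let K := kernelSubobject π
  have eiso : cokernel K.arrow ≅ S.toModules :=
    cokernelIsoOfEq (kernelSubobject_arrow π).symm ≪≫ cokernelEpiComp _ _ ≪≫
      (IsColimit.coconePointUniqueUpToIso (cokernelIsCokernel (kernel.ι π))
        (Abelian.epiIsCokernelOfKernel (KernelFork.ofι (kernel.ι π) (kernel.condition π)) (kernelIsKernel π)))
  have hQ : QCohCat.isQCoh X (cokernel K.arrow) :=
    haveI : Coh.IsQCoh S.toModules := isQCoh_small (F := M.obj) (U₀ := U₀) t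
    QCohLib.isQCoh_of_iso eiso.symm
  let i₀ : QIdx X := ⟨U₀, K, hQ⟩
  let a : qobj X ((equivShrink _).symm (equivShrink _ i₀)) ⟶ M :=
    eqToHom (by rw [Equiv.symm_apply_apply]) ≫
      ((QCohCat.isQCoh X).homMk (eiso.hom ≫ S.ι) : qobj X i₀ ⟶ M)
  have hF := hh _ (ObjectProperty.ofObj_apply _ (equivShrink _ i₀)) a
  simp only [a, Category.assoc, cancel_epi] at hF
  have h3 : S.ι ≫ f₁.hom = S.ι ≫ f₂.hom := by
    rw [← cancel_epi eiso.hom]
    have := congrArg InducedCategory.Hom.hom hF
    simpa using this
  exact congrArg (fun φ => φ.app (A p) (S.lift t (mem_self (F := M.obj) (U₀ := U₀) t))) h3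

/-- Colimit preserving functors out of quasi-coherent modules have right adjoints. -/
theorem isLeftAdjoint {D : Type*} [Category.{u} D]
    (F : QCohCat.QCoh X ⥤ D) [PreservesColimitsOfSize.{u, u} F] : F.IsLeftAdjoint := by
  haveI := QCohSepLib.hasColimits X
  haveI := QCohSepLib.wellPowered_op X
  obtain ⟨T, g, hg⟩ := exists_separating X
  exact isLeftAdjoint_of_preservesColimits_of_isSeparating (P := ObjectProperty.ofObj g) hg F

/-- The inclusion preserves colimits. -/
theorem preservesColimits_ι : PreservesColimitsOfSize.{u, u} (QCohCat.isQCoh X).ι := by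
  refine ⟨fun {J} _ => ?_⟩
  haveI : HasColimitsOfShape J X.Modules := inferInstance
  haveI : (QCohCat.isQCoh X).IsClosedUnderColimitsOfShape J :=
    ObjectProperty.IsClosedUnderColimitsOfShape.mk' (by
      rintro M ⟨F, hF⟩
      exact QCohLib.isQCoh_colimit F hF)
  infer_instance

/-- The coherator exists. -/
theorem isLeftAdjoint_ι : (QCohCat.isQCoh X).ι.IsLeftAdjoint :=
  haveI := preservesColimits_ι X
  isLeftAdjoint X _

/-- Quasi-coherent modules have enough injectives. -/
theorem enoughInjectives : EnoughInjectives (QCohCat.QCoh X) := by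
  haveI := isLeftAdjoint_ι X
  haveI := InjModLib.isGrothendieckAbelian_modules (X := X)
  haveI : EnoughInjectives X.Modules := inferInstance
  haveI : (QCohCat.isQCoh X).ι.PreservesMonomorphisms :=
    (QCohCat.isQCoh X).preservesMonomorphisms_ι_of_isNormalEpiCategory
  let adj := Adjunction.ofIsLeftAdjoint (QCohCat.isQCoh X).ι
  refine ⟨fun M => ⟨?_⟩⟩
  haveI : Injective ((QCohCat.isQCoh X).ι.rightAdjoint.obj (Injective.under ((QCohCat.isQCoh X).ι.obj M))) :=
    Injective.injective_of_adjoint adj _
  refine ⟨(QCohCat.isQCoh X).ι.rightAdjoint.obj (Injective.under ((QCohCat.isQCoh X).ι.obj M)),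
    inferInstance, adj.homEquiv _ _ (Injective.ι _), ?_⟩
  refine (QCohCat.isQCoh X).ι.mono_of_mono_map ?_
  refine @mono_of_mono _ _ _ _ _ _ (adj.counit.app (Injective.under ((QCohCat.isQCoh X).ι.obj M))) ?_
  have e := (adj.homEquiv M (Injective.under ((QCohCat.isQCoh X).ι.obj M))).symm_apply_apply
    (Injective.ι ((QCohCat.isQCoh X).ι.obj M))
  rw [Adjunction.homEquiv_counit] at e
  exact e.symm ▸ (inferInstance : Mono (Injective.ι ((QCohCat.isQCoh X).ι.obj M)))

end Groth.Agent.QCohGenLib
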