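import Groth.Agent.QCohSepLib.Basic

/-!
# Small quasi-coherent submodules through a section, on an arbitrary scheme
-/

set_option autoImplicit false
set_option backward.isDefEq.respectTransparency false
set_option backward.isDefEq.respectTransparency.types false
set_option linter.style.haveILetI false

universe u

open CategoryTheory CategoryTheory.Limits AlgebraicGeometry TopologicalSpace Opposite

noncomputable section

namespace Groth.Agent.QCohGenLib

open QCohLib

variable {X : Scheme.{u}}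

/-- The indices of the closure of one section over `U₀` under moving between affine opens. -/
def Idx (U₀ : X.affineOpens) : ℕ → X.affineOpens → Type u
  | 0, V => ULift.{u} (PLift (U₀ = V))
  | n + 1, V => Σ U : X.affineOpens, {g : Γ(X, V.1) // X.basicOpen g ≤ U.1} × Idx U₀ n U

/-- The indices living on one affine open. -/
def IdxOn (U₀ V : X.affineOpens) : Type u := Σ n : ℕ, Idx U₀ n V

/-- All indices. -/
def Ind (U₀ : X.affineOpens) : Type u := Σ V : X.affineOpens, IdxOn U₀ V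

variable {F : X.Modules} [Coh.IsQCoh F] {U₀ : X.affineOpens} (s₀ : Γ(F, U₀.1))

/-- The sections of the closure. -/
def secN : ∀ (n : ℕ) (V : X.affineOpens), Idx U₀ n V → Γ(F, V.1)
  | 0, _, h => h.down.down ▸ s₀
  | n + 1, V, x => ((localizingAt_of_isQCoh V.2 F x.2.1.1).exists_extend
      (F.presheaf.map (homOfLE x.2.1.2).op (secN n x.1 x.2.2))).choose_spec.choose

/-- The generators on one affine open. -/
def secOn {V : X.affineOpens} (x : IdxOn U₀ V) : Γ(F, V.1) := secN s₀ x.1 V x.2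

theorem exists_eq_smul {U V : X.affineOpens} (x : IdxOn U₀ U) (g : Γ(X, V.1))
    (hg : X.basicOpen g ≤ U.1) : ∃ (y : IdxOn U₀ V) (r : Γ(X, X.basicOpen g)),
      F.presheaf.map (homOfLE hg).op (secOn s₀ x) =
        r • F.presheaf.map (homOfLE (X.basicOpen_le g)).op (secOn s₀ y) := by
  let y : IdxOn U₀ V := ⟨x.1 + 1, U, ⟨g, hg⟩, x.2⟩
  have h := (localizingAt_of_isQCoh V.2 F g).exists_extend
    (F.presheaf.map (homOfLE hg).op (secN s₀ x.1 U x.2))
  have hy : F.presheaf.map (homOfLE (X.basicOpen_le g)).op (secOn s₀ y) =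
      (X.presheaf.map (homOfLE (X.basicOpen_le g)).op g) ^ h.choose •
        F.presheaf.map (homOfLE hg).op (secOn s₀ x) := h.choose_spec.choose_spec
  have hu : IsUnit ((X.presheaf.map (homOfLE (X.basicOpen_le g)).op g) ^ h.choose) :=
    (RingedSpace.isUnit_res_basicOpen _ g).pow _
  obtain ⟨v, hv⟩ := hu
  refine ⟨y, ↑v⁻¹, ?_⟩
  rw [hy, smul_smul, ← hv, Units.inv_mul, one_smul]

/-- Restrictions of all the generators. -/
def gens (W : X.Opens) : Set Γ(F, W) :=
  {z | ∃ (i : Ind U₀) (h : W ≤ i.1.1), F.presheaf.map (homOfLE h).op (secOn s₀ i.2) = z}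

omit [Coh.IsQCoh F] in
theorem map_span {V W : X.Opens} (h : W ≤ V) (P : Set Γ(F, V)) (Q : Set Γ(F, W))
    (hPQ : ∀ z ∈ P, F.presheaf.map (homOfLE h).op z ∈ Submodule.span Γ(X, W) Q) {z : Γ(F, V)}
    (hz : z ∈ Submodule.span Γ(X, V) P) :
    F.presheaf.map (homOfLE h).op z ∈ Submodule.span Γ(X, W) Q := by
  induction hz using Submodule.span_induction with
  | mem z hz => exact hPQ z hz
  | zero => rw [map_zero]; exact zero_mem _
  | add a b _ _ ha hb => rw [map_add]; exact add_mem ha hb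
  | smul r a _ ha => rw [map_smul']; exact Submodule.smul_mem _ _ ha

theorem map_span_gens {V W : X.Opens} (h : W ≤ V) {z : Γ(F, V)}
    (hz : z ∈ Submodule.span Γ(X, V) (gens s₀ V)) :
    F.presheaf.map (homOfLE h).op z ∈ Submodule.span Γ(X, W) (gens s₀ W) :=
  map_span h _ _ (by
    rintro z ⟨i, hi, rfl⟩
    rw [map_map']
    exact Submodule.subset_span ⟨i, h.trans hi, rfl⟩) hz

/-- The submodule generated by the closure. -/
def small : LocSub F where
  mem O a := ∀ p : X, p ∈ O → ∃ (W : X.Opens) (h : W ≤ O), p ∈ W ∧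
    F.presheaf.map (homOfLE h).op a ∈ Submodule.span Γ(X, W) (gens s₀ W)
  zero O p hp := ⟨O, le_rfl, hp, by rw [map_zero]; exact zero_mem _⟩
  add {O a b} ha hb p hp := by
    obtain ⟨W, h, hpW, hW⟩ := ha p hp
    obtain ⟨W', h', hpW', hW'⟩ := hb p hp
    refine ⟨W ⊓ W', inf_le_left.trans h, ⟨hpW, hpW'⟩, ?_⟩
    rw [map_add]
    have h1 := map_span_gens s₀ (inf_le_left : W ⊓ W' ≤ W) hW
    have h2 := map_span_gens s₀ (inf_le_right : W ⊓ W' ≤ W') hW'
    rw [map_map'] at h1 h2
    exact add_mem h1 h2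
  smul {O} r {a} ha p hp := by
    obtain ⟨W, h, hpW, hW⟩ := ha p hp
    exact ⟨W, h, hpW, by rw [map_smul']; exact Submodule.smul_mem _ _ hW⟩
  res {O O'} hO {a} ha p hp := by
    obtain ⟨W, h, hpW, hW⟩ := ha p (hO hp)
    refine ⟨W ⊓ O', inf_le_right, ⟨hpW, hp⟩, ?_⟩
    have h1 := map_span_gens s₀ (inf_le_left : W ⊓ O' ≤ W) hW
    rw [map_map'] at h1 ⊢
    exact h1
  local' {O} a ha p hp := by
    obtain ⟨W, h, hpW, hW⟩ := ha p hp
    obtain ⟨W', h', hpW', hW'⟩ := hW p hpW
    rw [map_map'] at hW'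
    exact ⟨W', h'.trans h, hpW', hW'⟩

theorem mem_secOn (i : Ind U₀) : (small s₀).mem i.1.1 (secOn s₀ i.2) :=
  fun _ hp => ⟨i.1.1, le_rfl, hp, Submodule.subset_span ⟨i, le_rfl, rfl⟩⟩

theorem mem_self : (small s₀).mem U₀.1 s₀ := mem_secOn s₀ ⟨U₀, 0, ⟨⟨rfl⟩⟩⟩

/-- Near a point of an affine, the generators of that affine suffice. -/
theorem exists_span_on (V : X.affineOpens) {O : X.Opens} {a : Γ(F, O)} (ha : (small s₀).mem O a)
    {p : X} (hp : p ∈ O) (hpV : p ∈ V.1) :
    ∃ (W : X.Opens) (hW : W ≤ O) (hWV : W ≤ V.1), p ∈ W ∧ F.presheaf.map (homOfLE hW).op a ∈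
      Submodule.span Γ(X, W)
        (Set.range fun x : IdxOn U₀ V => F.presheaf.map (homOfLE hWV).op (secOn s₀ x)) := by
  obtain ⟨W, hW, hpW, hs⟩ := ha p hp
  suffices h : ∀ z ∈ Submodule.span Γ(X, W) (gens s₀ W),
      ∃ (W' : X.Opens) (hW' : W' ≤ W) (hWV : W' ≤ V.1), p ∈ W' ∧
        F.presheaf.map (homOfLE hW').op z ∈ Submodule.span Γ(X, W')
          (Set.range fun x : IdxOn U₀ V => F.presheaf.map (homOfLE hWV).op (secOn s₀ x)) by
    obtain ⟨W', hW', hWV, hpW', h'⟩ := h _ hs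
    rw [map_map'] at h'
    exact ⟨W', hW'.trans hW, hWV, hpW', h'⟩
  intro z hz
  induction hz using Submodule.span_induction with
  | mem z hz =>
    obtain ⟨i, hi, rfl⟩ := hz
    obtain ⟨g, hgU, hpg⟩ := exists_basicOpen_nhd V.2 (hi hpW) hpV
    obtain ⟨y, r, hy⟩ := exists_eq_smul s₀ i.2 g hgU
    refine ⟨W ⊓ X.basicOpen g, inf_le_left, inf_le_right.trans (X.basicOpen_le g), ⟨hpW, hpg⟩, ?_⟩
    have h1 := congrArg (F.presheaf.map (homOfLE (inf_le_right : W ⊓ X.basicOpen g ≤ X.basicOpen g)).op) hy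
    rw [map_map', map_smul', map_map'] at h1
    rw [map_map']
    exact h1 ▸ Submodule.smul_mem _ _ (Submodule.subset_span ⟨y, rfl⟩)
  | zero => exact ⟨W ⊓ V.1, inf_le_left, inf_le_right, ⟨hpW, hpV⟩, by rw [map_zero]; exact zero_mem _⟩
  | add a b _ _ ha hb =>
    obtain ⟨W₁, h₁, hV₁, hp₁, ha⟩ := ha
    obtain ⟨W₂, h₂, hV₂, hp₂, hb⟩ := hb
    have key : ∀ {W₁ : X.Opens} (h₁ : W₁ ≤ W) (hV₁ : W₁ ≤ V.1) {W' : X.Opens} (h' : W' ≤ W₁) {c : Γ(F, W)},
        F.presheaf.map (homOfLE h₁).op c ∈ Submodule.span Γ(X, W₁)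
          (Set.range fun x : IdxOn U₀ V => F.presheaf.map (homOfLE hV₁).op (secOn s₀ x)) →
        F.presheaf.map (homOfLE (h'.trans h₁)).op c ∈ Submodule.span Γ(X, W')
          (Set.range fun x : IdxOn U₀ V => F.presheaf.map (homOfLE (h'.trans hV₁)).op (secOn s₀ x)) := by
      intro W₁ h₁ hV₁ W' h' c hc
      have e := map_span h' _ (Set.range fun x : IdxOn U₀ V =>
        F.presheaf.map (homOfLE (h'.trans hV₁)).op (secOn s₀ x)) (by
          rintro _ ⟨x, rfl⟩
          rw [map_map']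
          exact Submodule.subset_span ⟨x, rfl⟩) hc
      rw [map_map'] at e
      exact e
    refine ⟨W₁ ⊓ W₂, inf_le_left.trans h₁, inf_le_left.trans hV₁, ⟨hp₁, hp₂⟩, ?_⟩
    rw [map_add]
    exact add_mem (key h₁ hV₁ inf_le_left ha) (key h₂ hV₂ inf_le_right hb)
  | smul r a _ ha =>
    obtain ⟨W₁, h₁, hV₁, hp₁, ha⟩ := ha
    exact ⟨W₁, h₁, hV₁, hp₁, by rw [map_smul']; exact Submodule.smul_mem _ _ ha⟩

/-- On an affine inside `V`, finitely many generators of `V` suffice. -/
theorem exists_finite_span (V : X.affineOpens) {D : X.Opens} (hD : IsAffineOpen D)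
    (hDV : D ≤ V.1) {a : Γ(F, D)} (ha : (small s₀).mem D a) :
    ∃ (J : Finset (IdxOn U₀ V)) (c : J → Γ(X, D)),
      a = ∑ x, c x • F.presheaf.map (homOfLE hDV).op (secOn s₀ x.1) := by
  classical
  choose W hW hWV hpW hs using fun p : D => exists_span_on s₀ V ha p.2 (hDV p.2)
  choose c hc using fun p => Finsupp.mem_span_range_iff_exists_finsupp.mp (hs p)
  obtain ⟨t, ht⟩ := hD.isCompact.elim_finite_subcover (fun p : D => (W p : Set X))
    (fun p => (W p).isOpen) fun p hp => Set.mem_iUnion.mpr ⟨⟨p, hp⟩, hpW ⟨p, hp⟩⟩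
  let J := t.biUnion fun p => (c p).support
  refine ⟨J, LocSub.exists_eq_sum (s := fun x : J => secOn s₀ x.1) hD hDV fun p hp _ => ?_⟩
  obtain ⟨q, hqt, hpq⟩ := Set.mem_iUnion₂.mp (ht hp)
  refine ⟨W q, hW q, hWV q, hpq, fun x => c q x.1, ?_⟩
  rw [← hc q]
  unfold Finsupp.sum
  rw [Finset.sum_subset (Finset.subset_biUnion_of_mem (fun p => (c p).support) hqt) fun x _ hx => by
    simp [Finsupp.notMem_support_iff.mp hx]]
  exact (Finset.sum_coe_sort J fun x =>
    c q x • F.presheaf.map (homOfLE (hWV q)).op (secOn s₀ x)).symm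

theorem exists_pow_smul_mem {W : X.Opens} (hW : IsAffineOpen W) (g : Γ(X, W)) (a : Γ(F, W))
    (ha : (small s₀).mem (X.basicOpen g) (F.presheaf.map (homOfLE (X.basicOpen_le g)).op a)) :
    ∃ k : ℕ, (small s₀).mem W (g ^ k • a) := by
  classical
  choose V hV hpV using fun q : W => exists_affine_nhd (X := X) q.1
  choose h hhV hqh using fun q : W => exists_basicOpen_nhd hW (hpV q) q.2
  obtain ⟨t, ht⟩ := hW.isCompact.elim_finite_subcover
    (fun q : W => (X.basicOpen (h q) : Set X)) (fun q => (X.basicOpen _).isOpen)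
    fun q hq => Set.mem_iUnion.mpr ⟨⟨q, hq⟩, hqh ⟨q, hq⟩⟩
  have key : ∀ q : W, ∃ k : ℕ, (small s₀).mem (X.basicOpen (h q))
      ((X.presheaf.map (homOfLE (X.basicOpen_le (h q))).op g) ^ k •
        F.presheaf.map (homOfLE (X.basicOpen_le (h q))).op a) := by
    intro q
    let D := X.basicOpen (h q)
    have hD : IsAffineOpen D := hW.basicOpen (h q)
    let gD : Γ(X, D) := X.presheaf.map (homOfLE (X.basicOpen_le (h q))).op g
    let aD : Γ(F, D) := F.presheaf.map (homOfLE (X.basicOpen_le (h q))).op a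
    let D' := X.basicOpen gD
    have hD'D : D' ≤ D := X.basicOpen_le gD
    have hD'g : D' ≤ X.basicOpen g := by
      rw [show D' = D ⊓ X.basicOpen g from Scheme.basicOpen_res _ _ _]
      exact inf_le_right
    have hmem : (small s₀).mem D' (F.presheaf.map (homOfLE hD'D).op aD) := by
      have h1 := (small s₀).res hD'g ha
      rw [map_map'] at h1 ⊢
      exact h1
    obtain ⟨J, c, hc⟩ := exists_finite_span s₀ ⟨V q, hV q⟩ (hD.basicOpen gD)
      (hD'D.trans (hhV q)) hmem
    have hext : ∀ x, ∃ (e : ℕ) (b : Γ(X, D)),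
        X.presheaf.map (homOfLE hD'D).op b = (X.presheaf.map (homOfLE hD'D).op gD) ^ e * c x :=
      fun x => (@localizingAt_of_isQCoh _ _ hD (Coh.structureModule X) isQCoh_unit gD).exists_extend _
    choose e b hb using hext
    let E := Finset.univ.sup e
    let y : Γ(F, D) :=
      ∑ x : J, (gD ^ (E - e x) * b x) • F.presheaf.map (homOfLE (hhV q)).op (secOn s₀ x.1)
    have hy : (small s₀).mem D y := (small s₀).sum _ _ fun x _ =>
      (small s₀).smul _ ((small s₀).res _ (mem_secOn s₀ ⟨⟨V q, hV q⟩, x.1⟩))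
    have heq : F.presheaf.map (homOfLE hD'D).op (gD ^ E • aD - y) = 0 := by
      rw [map_sub, sub_eq_zero, map_smul', map_sum, hc, Finset.smul_sum]
      refine Finset.sum_congr rfl fun x _ => ?_
      rw [map_smul', map_map', map_mul, map_pow, map_pow, hb, ← mul_smul,
        ← mul_assoc (X.presheaf.map (homOfLE hD'D).op gD ^ (E - e x)), ← pow_add,
        Nat.sub_add_cancel (Finset.le_sup (Finset.mem_univ x))]
      rfl
    obtain ⟨k, hk⟩ := (localizingAt_of_isQCoh hD F gD).eq_zero _ heq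
    refine ⟨k + E, ?_⟩
    have h3 : gD ^ (k + E) • aD = gD ^ k • y := by
      simp only [homOfLE_refl, op_id, CategoryTheory.Functor.map_id] at hk
      change gD ^ k • (gD ^ E • aD - y) = 0 at hk
      rw [smul_sub, sub_eq_zero, ← mul_smul, ← pow_add] at hk
      exact hk
    exact h3 ▸ (small s₀).smul _ hy
  choose k hk using key
  refine ⟨t.sup k, (small s₀).local' _ fun p hp => ?_⟩
  obtain ⟨q, hqt, hpq⟩ := Set.mem_iUnion₂.mp (ht hp)
  refine ⟨X.basicOpen (h q), X.basicOpen_le _, hpq, ?_⟩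
  have h4 : F.presheaf.map (homOfLE (X.basicOpen_le (h q))).op (g ^ t.sup k • a) =
      (X.presheaf.map (homOfLE (X.basicOpen_le (h q))).op g) ^ (t.sup k - k q) •
        ((X.presheaf.map (homOfLE (X.basicOpen_le (h q))).op g) ^ k q •
          F.presheaf.map (homOfLE (X.basicOpen_le (h q))).op a) := by
    rw [map_smul', map_pow, ← mul_smul, ← pow_add, Nat.sub_add_cancel (Finset.le_sup hqt)]
  exact h4 ▸ (small s₀).smul _ (hk q)

theorem isQCoh_small : Coh.IsQCoh (small s₀).toModules := by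
  rw [isQCoh_iff_localizingAt]
  intro W hW g
  refine ⟨fun z => ?_, fun z hz => ?_⟩
  · obtain ⟨N, t, ht⟩ := (localizingAt_of_isQCoh hW F g).exists_extend ((small s₀).ι.app _ z)
    obtain ⟨k, hk⟩ := exists_pow_smul_mem s₀ hW g t
      (ht ▸ (small s₀).smul _ ((small s₀).ι_app_mem z))
    refine ⟨k + N, (small s₀).lift _ hk, (small s₀).ι_app_injective _ ?_⟩
    rw [app_map, LocSub.ι_lift, app_smul, map_smul', ht, map_pow, ← mul_smul, ← pow_add]
  · obtain ⟨N, hN⟩ := (localizingAt_of_isQCoh hW F g).eq_zero ((small s₀).ι.app _ z)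
      (by rw [← app_map, hz, map_zero])
    exact ⟨N, (small s₀).ι_app_injective _ (by rw [app_smul, hN, map_zero])⟩

variable (U₀) in
/-- The fixed sum of free modules covering every small submodule. -/
def gen : X.Modules := ∐ fun i : Ind U₀ => KFlatLib.freeU i.1.1

/-- The map from the fixed sum. -/
def cover : gen U₀ ⟶ (small s₀).toModules :=
  Sigma.desc fun i => KFlatLib.secMap ((small s₀).lift _ (mem_secOn s₀ i))

instance epi_cover : Epi (cover s₀) := by
  constructor
  intro N g h hgh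
  let S := small s₀
  have hk : ∀ i : Ind U₀, g.app i.1.1 (S.lift _ (mem_secOn s₀ i)) =
      h.app i.1.1 (S.lift _ (mem_secOn s₀ i)) := fun i => by
    have h2 := congrArg (fun φ => Sigma.ι (fun i : Ind U₀ => KFlatLib.freeU i.1.1) i ≫ φ) hgh
    simp only [cover, Sigma.ι_desc_assoc, KFlatLib.secMap_comp] at h2
    exact (KFlatLib.freeUEquiv i.1.1 N).symm.injective h2
  refine Scheme.Modules.hom_ext _ _ fun V => ?_
  ext a
  choose W hW hpW hs using fun p : V => S.ι_app_mem a p.1 p.2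
  refine TopCat.Sheaf.eq_of_locally_eq' ((QCohLib.toAbF X).obj N : TopCat.Sheaf AddCommGrpCat _)
    W V (fun p => homOfLE (hW p)) (fun q hq => Opens.mem_iSup.mpr ⟨⟨q, hq⟩, hpW ⟨q, hq⟩⟩) _ _
    fun p => ?_
  refine ((QCohLib.app_map g _ a).symm.trans ?_).trans (QCohLib.app_map h _ a)
  show g.app (W p) _ = h.app (W p) _
  suffices key : ∀ z ∈ Submodule.span Γ(X, W p) (gens s₀ (W p)),
      ∃ y : Γ(S.toModules, W p), S.ι.app (W p) y = z ∧ g.app (W p) y = h.app (W p) y by
    obtain ⟨y, hy, hgy⟩ := key _ (hs p)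
    have e : y = S.toModules.presheaf.map (homOfLE (hW p)).op a :=
      S.ι_app_injective _ (hy.trans (app_map S.ι _ a).symm)
    exact e ▸ hgy
  intro z hz
  induction hz using Submodule.span_induction with
  | mem z hz =>
    obtain ⟨i, hi, rfl⟩ := hz
    exact ⟨S.toModules.presheaf.map (homOfLE hi).op (S.lift _ (mem_secOn s₀ i)),
      by rw [app_map, LocSub.ι_lift], by rw [app_map, app_map, hk]⟩
  | zero => exact ⟨0, map_zero _, by rw [map_zero, map_zero]⟩
  | add a b _ _ ha hb =>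
    obtain ⟨y, rfl, hy⟩ := ha
    obtain ⟨y', rfl, hy'⟩ := hb
    exact ⟨y + y', map_add _ _ _, by rw [map_add, map_add, hy, hy']⟩
  | smul r a _ ha =>
    obtain ⟨y, rfl, hy⟩ := ha
    exact ⟨r • y, app_smul _ _ _ _, by rw [app_smul, app_smul, hy]⟩

end Groth.Agent.QCohGenLib
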